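import Groth.Agent.GmDual77.Norm
import Groth.Agent.EtFound.PushExact
import Groth.Agent.SiteBase.LerayTop
import Groth.Agent.BigSiteLib.HofPushEt
import Groth.Agent.EtFound.PullStalk
import Groth.Prelude.Def_Dix
import Groth.Prelude.Def_Mor2
import Mathlib.AlgebraicGeometry.Morphisms.FlatRank
import Mathlib.RingTheory.Finiteness.ModuleFinitePresentation

/-!
# The norm `f_* G_m → G_m` of a finite locally free morphism on the small étale sites
-/

universe u

open CategoryTheory CategoryTheory.Limits AlgebraicGeometry Opposite TopologicalSpace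

noncomputable section

namespace Groth.Agent.BrauerXNorm

open Groth.Agent.GmDual77

set_option backward.isDefEq.respectTransparency.types false

variable {X S : Scheme.{u}} (p : X ⟶ S) [IsFinite p] [Flat p] [LocallyOfFinitePresentation p]

theorem exists_free_away {R B : Type u} [CommRing R] [CommRing B] [Algebra R B] [Module.Finite R B]
    [Module.Flat R B] [Module.FinitePresentation R B] (P : PrimeSpectrum R) :
    ∃ g : R, g ∉ P.asIdeal ∧ ∀ (R' B' : Type u) [CommRing R'] [CommRing B'] [Algebra R R'] [Algebra B B']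
      [Algebra R' B'] [Algebra R B'] [IsScalarTower R R' B'] [IsScalarTower R B B'] [IsLocalization.Away g R']
      [Algebra.IsPushout R R' B B'], Module.Free R' B' ∧ Module.Finite R' B' := by
  have hP : P ∈ Module.freeLocus R B := by rw [Module.freeLocus_eq_univ]; trivial
  haveI : Module.Free (Localization.AtPrime P.asIdeal) (LocalizedModule P.asIdeal.primeCompl B) := hP
  obtain ⟨g, hg, hfree, -⟩ := Module.FinitePresentation.exists_free_localizedModule_powers
    P.asIdeal.primeCompl (LocalizedModule.mkLinearMap P.asIdeal.primeCompl B)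
    (Localization.AtPrime P.asIdeal)
  refine ⟨g, hg, fun R' B' _ _ _ _ _ _ _ _ _ hpo => ?_⟩
  let L := Localization (Submonoid.powers g)
  let e : L ≃ₐ[R] R' := IsLocalization.algEquiv (Submonoid.powers g) L R'
  letI : Algebra L R' := (e : L →+* R').toAlgebra
  letI : Algebra L B' := ((algebraMap R' B').comp (e : L →+* R')).toAlgebra
  haveI : IsScalarTower R L R' := IsScalarTower.of_algebraMap_eq fun r => (e.commutes r).symm
  haveI : IsScalarTower L R' B' := IsScalarTower.of_algebraMap_eq fun _ => rfl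
  haveI : IsScalarTower R L B' := IsScalarTower.of_algebraMap_eq fun r => by
    rw [RingHom.algebraMap_toAlgebra, RingHom.comp_apply, IsScalarTower.algebraMap_apply R R' B']
    exact congrArg _ (e.commutes r).symm
  have ibc₁ : IsBaseChange L (LocalizedModule.mkLinearMap (Submonoid.powers g) B) :=
    IsLocalizedModule.isBaseChange (Submonoid.powers g) L _
  have ibc₂ := hpo.out
  let γ := ibc₁.lift (IsScalarTower.toAlgHom R B B').toLinearMap
  have ibc₃ : IsBaseChange R' γ := by
    refine IsBaseChange.of_comp ibc₁ ?_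
    convert ibc₂ using 1
    exact ibc₁.lift_comp _
  haveI : Module.Free L (LocalizedModule (Submonoid.powers g) B) := hfree
  refine ⟨IsBaseChange.free ibc₃, ?_⟩
  exact Module.Finite.equiv ibc₂.equiv

/-- a finite locally free morphism has locally free functions -/
theorem locGood_of_finLocFree : Norm.LocGood p := fun s => by
  obtain ⟨_, ⟨U, hU, rfl⟩, hsU, -⟩ :=
    S.isBasis_affineOpens.exists_subset_of_mem_open (Set.mem_univ s) isOpen_univ
  algebraize [(p.app U).hom]
  haveI : Module.Finite Γ(S, U) Γ(X, p ⁻¹ᵁ U) := RingHom.finite_algebraMap.1 (p.finite_app U hU)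
  haveI : Module.Flat Γ(S, U) Γ(X, p ⁻¹ᵁ U) := by
    rw [← RingHom.flat_algebraMap_iff, RingHom.algebraMap_toAlgebra]
    exact Scheme.Hom.app_eq_appLE p ▸ p.flat_appLE hU (hU.preimage p) le_rfl
  haveI : Algebra.FinitePresentation Γ(S, U) Γ(X, p ⁻¹ᵁ U) := by
    rw [← RingHom.finitePresentation_algebraMap, RingHom.algebraMap_toAlgebra]
    exact Scheme.Hom.app_eq_appLE p ▸
      LocallyOfFinitePresentation.finitePresentation_appLE p hU (hU.preimage p) le_rfl
  haveI : Module.FinitePresentation Γ(S, U) Γ(X, p ⁻¹ᵁ U) :=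
    Module.FinitePresentation.of_finite_of_finitePresentation _ _
  obtain ⟨g, hg, hfree⟩ := exists_free_away (R := Γ(S, U)) (B := Γ(X, p ⁻¹ᵁ U))
    (hU.primeIdealOf ⟨s, hsU⟩)
  have hsg : s ∈ S.basicOpen g := by
    have hh := hU.fromSpec_preimage_basicOpen g
    have h1 : hU.fromSpec (hU.primeIdealOf ⟨s, hsU⟩) = s := hU.fromSpec_primeIdealOf ⟨s, hsU⟩
    rw [← h1]
    change hU.primeIdealOf ⟨s, hsU⟩ ∈ hU.fromSpec ⁻¹ᵁ S.basicOpen g
    rw [hh]
    exact hg
  let W := S.basicOpen g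
  have hle : W ≤ U := S.basicOpen_le g
  have hWaff : IsAffineOpen W := hU.basicOpen g
  have H : IsPullback (𝟙 X) p p (𝟙 S) := IsPullback.of_id_fst
  have hUY : p ⁻¹ᵁ W = (𝟙 X : X ⟶ X) ⁻¹ᵁ (p ⁻¹ᵁ U) ⊓ p ⁻¹ᵁ W := (inf_eq_right.2 (p.preimage_mono hle)).symm
  have := isIso_pushoutSection_of_isAffineOpen H (UT := W) (UX := p ⁻¹ᵁ U) hle le_rfl hUY hU hWaff
    (hU.preimage p)
  have hpo := ((isIso_pushoutSection_iff H (UT := W) (UX := p ⁻¹ᵁ U) hle le_rfl hUY).1 this).flip
  simp only [Scheme.Hom.appLE, Scheme.Hom.id_app, Category.id_comp, homOfLE_refl, op_id,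
    CategoryTheory.Functor.map_id, Category.comp_id] at hpo
  refine ⟨W, hsg, hWaff, ?_⟩
  letI : Algebra Γ(S, W) Γ(X, p ⁻¹ᵁ W) := (p.app W).hom.toAlgebra
  letI : Algebra Γ(S, U) Γ(S, W) := (S.presheaf.map (homOfLE hle).op).hom.toAlgebra
  letI : Algebra Γ(X, p ⁻¹ᵁ U) Γ(X, p ⁻¹ᵁ W) := (X.presheaf.map (homOfLE (p.preimage_mono hle)).op).hom.toAlgebra
  letI : Algebra Γ(S, U) Γ(X, p ⁻¹ᵁ W) :=
    (S.presheaf.map (homOfLE hle).op ≫ p.app W).hom.toAlgebra
  haveI : IsScalarTower Γ(S, U) Γ(S, W) Γ(X, p ⁻¹ᵁ W) := IsScalarTower.of_algebraMap_eq fun _ => rfl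
  haveI : IsScalarTower Γ(S, U) Γ(X, p ⁻¹ᵁ U) Γ(X, p ⁻¹ᵁ W) := IsScalarTower.of_algebraMap_eq' <| by
    change (S.presheaf.map (homOfLE hle).op ≫ p.app W).hom = _
    rw [p.naturality]
    rfl
  haveI : IsLocalization.Away g Γ(S, W) := hU.isLocalization_basicOpen g
  haveI : Algebra.IsPushout Γ(S, U) Γ(S, W) Γ(X, p ⁻¹ᵁ U) Γ(X, p ⁻¹ᵁ W) :=
    CommRingCat.isPushout_iff_isPushout.1 hpo
  exact hfree Γ(S, W) Γ(X, p ⁻¹ᵁ W)

omit [LocallyOfFinitePresentation p] in
/-- the norm of a function coming from below -/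
theorem normFn_appTop (hp : Norm.LocGood p) (d : ℕ) (hd : ∀ s : S, p.finrank s = d) (v : Γ(S, ⊤)) :
    Norm.normFn p hp (p.appTop v) = v ^ d := by
  refine Norm.ext_good p hp fun W hW => ?_
  rw [Norm.isNm_normFn p hp _ W hW, map_pow]
  letI := (p.app W).hom.toAlgebra
  haveI : Module.Free Γ(S, W) Γ(X, p ⁻¹ᵁ W) := hW.free.1
  haveI : Module.Finite Γ(S, W) Γ(X, p ⁻¹ᵁ W) := hW.free.2
  have e : X.presheaf.map (homOfLE (le_top : p ⁻¹ᵁ W ≤ ⊤)).op (p.appTop v) =
      algebraMap Γ(S, W) Γ(X, p ⁻¹ᵁ W) (S.presheaf.map (homOfLE (le_top : W ≤ ⊤)).op v) :=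
    (ConcreteCategory.congr_hom (p.naturality (homOfLE (le_top : W ≤ ⊤)).op) v).symm
  show Algebra.norm Γ(S, W) _ = _
  rw [e]
  rcases subsingleton_or_nontrivial Γ(S, W) with h | h
  · exact Subsingleton.elim _ _
  rw [Algebra.norm_algebraMap_of_basis (Module.Free.chooseBasis Γ(S, W) Γ(X, p ⁻¹ᵁ W)),
    ← Module.finrank_eq_card_chooseBasisIndex]
  congr 1
  let z : PrimeSpectrum Γ(S, W) := Classical.arbitrary _
  have hsq : IsPullback (hW.affine.preimage p).fromSpec (Spec.map (p.app W)) p hW.affine.fromSpec := by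
    refine (IsOpenImmersion.isPullback _ _ _ _ ?_ ?_).flip
    · exact (hW.affine.preimage p).fromSpec |> fun _ => by
        rw [Scheme.Hom.app_eq_appLE]
        exact (IsAffineOpen.SpecMap_appLE_fromSpec p hW.affine (hW.affine.preimage p) le_rfl).symm
    · apply TopologicalSpace.Opens.ext
      show p ⁻¹' Set.range hW.affine.fromSpec = Set.range (hW.affine.preimage p).fromSpec
      rw [IsAffineOpen.range_fromSpec, IsAffineOpen.range_fromSpec]
      rfl
  have h1 := Scheme.Hom.finrank_of_isPullback _ _ _ _ hsq z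
  rw [hd] at h1
  rw [← h1]
  have h2 := Scheme.Hom.finrank_SpecMap_algebraMap Γ(S, W) Γ(X, p ⁻¹ᵁ W) z
  rw [Module.rankAtStalk_eq_finrank_of_free] at h2
  exact h2.symm

omit [IsFinite p] [Flat p] [LocallyOfFinitePresentation p] in
theorem normFn_comp' {Y T : Scheme.{u}} {g : Y ⟶ X} {q : Y ⟶ T} {h : T ⟶ S} (hAp : IsAffineHom p) (hAq : IsAffineHom q)
    (H : IsPullback g q p h) (hp : Norm.LocGood p) (hq : Norm.LocGood q) (s : Γ(X, ⊤)) :
    Norm.normFn q hq (g.appTop s) = h.appTop (Norm.normFn p hp s) :=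
  Norm.normFn_comp p H hp hq s

omit [IsFinite p] [Flat p] [LocallyOfFinitePresentation p] in
theorem isPB_gen {T' T : Scheme.{u}} (a : T ⟶ S) (g : T' ⟶ T) (a' : T' ⟶ S) (w : g ≫ a = a')
    (m : pullback a' p ⟶ pullback a p) (h1 : m ≫ pullback.snd a p = pullback.snd a' p)
    (h2 : m ≫ pullback.fst a p = pullback.fst a' p ≫ g) :
    IsPullback m (pullback.fst a' p) (pullback.fst a p) g := by
  subst w
  refine IsPullback.of_right ?_ h2 (IsPullback.of_hasPullback a p).flip
  rw [h1]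
  exact (IsPullback.of_hasPullback (g ≫ a) p).flip

section Sheaf

variable {X Y : Scheme.{u}} (f : X ⟶ Y) [IsFinite f] [Flat f] [LocallyOfFinitePresentation f]

theorem locGood_fst (U : Y.Etale) : Norm.LocGood (pullback.fst U.hom f) :=
  Norm.locGood_of_isPullback (IsPullback.of_hasPullback U.hom f).flip (locGood_of_finLocFree f)

/-- units of the norm -/
def nrmU (U : Y.Etale) : Γ(pullback U.hom f, ⊤)ˣ →* Γ(U.left, ⊤)ˣ :=
  haveI : IsAffineHom (pullback.fst U.hom f) :=
    MorphismProperty.pullback_fst (P := @IsAffineHom) U.hom f inferInstance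
  Units.map (Norm.normFn (pullback.fst U.hom f) (locGood_fst f U))

omit [Flat f] [LocallyOfFinitePresentation f] [IsFinite f] in
theorem isPB_map {U' U : Y.Etale} (g : U' ⟶ U) :
    IsPullback ((EtCoh.bc f).map g).left (pullback.fst U'.hom f) (pullback.fst U.hom f) g.left :=
  isPB_gen f U.hom g.left U'.hom (MorphismProperty.Over.w g) ((EtCoh.bc f).map g).left (pullback.lift_snd _ _ _)
    (pullback.lift_fst _ _ _)

/-- units of the pullback -/
def resU (U : Y.Etale) : Γ(U.left, ⊤)ˣ →* Γ(pullback U.hom f, ⊤)ˣ :=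
  Units.map (pullback.fst U.hom f).appTop.hom.toMonoidHom

/-- the norm map -/
def normMap : (EtCoh.push f).obj (EtCoh.Gm X) ⟶ EtCoh.Gm Y :=
  ⟨{ app := fun U => AddCommGrpCat.ofHom
      (AddEquiv.ulift.symm.toAddMonoidHom.comp ((MonoidHom.toAdditive (nrmU f U.unop)).comp
        AddEquiv.ulift.toAddMonoidHom))
     naturality := fun U U' g => by
       ext s
       refine ULift.ext _ _ (Additive.toMul.injective (Units.ext ?_))
       haveI : IsAffineHom (pullback.fst U'.unop.hom f) :=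
         MorphismProperty.pullback_fst (P := @IsAffineHom) U'.unop.hom f inferInstance
       haveI : IsAffineHom (pullback.fst U.unop.hom f) :=
         MorphismProperty.pullback_fst (P := @IsAffineHom) U.unop.hom f inferInstance
       exact normFn_comp' (pullback.fst U.unop.hom f) (MorphismProperty.pullback_fst (P := @IsAffineHom) U.unop.hom f inferInstance) (MorphismProperty.pullback_fst (P := @IsAffineHom) U'.unop.hom f inferInstance) (isPB_map f g.unop) (locGood_fst f U.unop) (locGood_fst f U'.unop) _ }⟩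

/-- units pulled back -/
def unitMap : EtCoh.Gm Y ⟶ (EtCoh.push f).obj (EtCoh.Gm X) :=
  ⟨{ app := fun U => AddCommGrpCat.ofHom
      (AddEquiv.ulift.symm.toAddMonoidHom.comp
        ((MonoidHom.toAdditive (resU f U.unop)).comp
          AddEquiv.ulift.toAddMonoidHom))
     naturality := fun U U' g => by
       ext s
       refine ULift.ext _ _ (Additive.toMul.injective (Units.ext ?_))
       have h : g.unop.left.appTop ≫ (pullback.fst U'.unop.hom f).appTop =
           (pullback.fst U.unop.hom f).appTop ≫ ((EtCoh.bc f).map g.unop).left.appTop :=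
         (Scheme.Hom.comp_appTop _ _).symm.trans ((congrArg Scheme.Hom.appTop (isPB_map f g.unop).w.symm).trans
           (Scheme.Hom.comp_appTop _ _))
       exact ConcreteCategory.congr_hom h _ }⟩

omit [IsFinite f] [Flat f] [LocallyOfFinitePresentation f] in
theorem hom_app_nsmul {F G : EtCoh.Ab Y} (φ : F ⟶ G) (d : ℕ) (U : Y.Etaleᵒᵖ) (s : F.obj.obj U) :
    (d • φ).hom.app U s = d • φ.hom.app U s := by
  induction d with
  | zero => rw [zero_smul, zero_smul]; rfl
  | succ d ih =>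
    rw [succ_nsmul, succ_nsmul, ← ih]
    rfl

theorem unit_norm (d : ℕ) (hd : ∀ y : Y, f.finrank y = d) :
    unitMap f ≫ normMap f = d • 𝟙 (EtCoh.Gm Y) := by
  ext U s
  haveI : IsAffineHom (pullback.fst U.unop.hom f) :=
    MorphismProperty.pullback_fst (P := @IsAffineHom) U.unop.hom f inferInstance
  haveI : IsFinite (pullback.fst U.unop.hom f) :=
    MorphismProperty.pullback_fst (P := @IsFinite) U.unop.hom f inferInstance
  haveI : Flat (pullback.fst U.unop.hom f) :=
    MorphismProperty.pullback_fst (P := @Flat) U.unop.hom f inferInstance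
  refine Eq.trans ?_ (hom_app_nsmul (𝟙 (EtCoh.Gm Y)) d U s).symm
  refine ULift.ext _ _ (Additive.toMul.injective (Units.ext ?_))
  exact (normFn_appTop (pullback.fst U.unop.hom f) (locGood_fst f U.unop) d
    (fun t => (Scheme.Hom.finrank_pullback_fst f U.unop.hom t).trans (hd _))
    ((Additive.toMul (ULift.down s) : Γ(U.unop.left, ⊤)ˣ) : Γ(U.unop.left, ⊤))).trans
      (Units.val_pow_eq_pow_val _ d).symm

/-- `H²(X, G_m)` torsion implies `H²(Y, G_m)` torsion -/
theorem isAddTorsion_H (d : ℕ) (hd0 : 1 ≤ d) (hd : ∀ y : Y, f.finrank y = d) (n : ℕ)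
    (hX : IsAddTorsion (EtCoh.H X (EtCoh.Gm X) n)) : IsAddTorsion (EtCoh.H Y (EtCoh.Gm Y) n) := by
  intro ξ
  haveI := EtFound.push_preservesFiniteColimits f
  haveI := EtFound.pull_preservesFiniteLimits f
  haveI : (EtCoh.push f).IsRightAdjoint := (EtCoh.pullPushAdj f).isRightAdjoint
  have hR : ∀ q : ℕ, 0 < q → IsZero ((EtCoh.Rpush f q).obj (EtCoh.Gm X)) := fun q hq => by
    obtain ⟨m, rfl⟩ := Nat.exists_eq_succ_of_ne_zero hq.ne'
    exact LerayDegen.isZero_rightDerived_of_exact (EtCoh.push f) _ m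
  have hbij := BigSiteLib.hofPush_bijective f (EtCoh.Gm X) hR n
  let Φ := (EtCoh.HF Y n).map (unitMap f)
  let Ψ := (EtCoh.HF Y n).map (normMap f)
  obtain ⟨m, hm, hmy⟩ := isOfFinAddOrder_iff_nsmul_eq_zero.1 (hX (EtLim.HofPush f (EtCoh.Gm X) n (Φ ξ)))
  have h0 : m • Φ ξ = 0 :=
    hbij.1 ((map_nsmul (EtLim.HofPush f (EtCoh.Gm X) n) m (Φ ξ)).trans (hmy.trans (map_zero _).symm))
  refine isOfFinAddOrder_iff_nsmul_eq_zero.2 ⟨m * d, Nat.mul_pos hm hd0, ?_⟩
  have h1 : d • ξ = Ψ (Φ ξ) := by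
    let A := AddMonoidHom.mk' (fun a : EtCoh.Gm Y ⟶ EtCoh.Gm Y => Sheaf.H.map a n ξ)
      fun a b => Sheaf.H.map_add_apply a b ξ
    have e1 : A (d • 𝟙 _) = d • ξ := (map_nsmul A d _).trans (congrArg (d • ·) (Sheaf.H.map_id_apply ξ))
    rw [← e1, ← unit_norm f d hd]
    show (EtCoh.HF Y n).map (unitMap f ≫ normMap f) ξ = _
    rw [Functor.map_comp, ConcreteCategory.comp_apply]
  rw [mul_nsmul']
  exact (congrArg (m • ·) h1).trans ((map_nsmul Ψ.hom m (Φ ξ)).symm.trans ((congrArg Ψ.hom h0).trans (map_zero _)))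

end Sheaf

end Groth.Agent.BrauerXNorm
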